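import Groth.Agent.IntNum47.Basic
import Groth.Agent.S0927
import Groth.Agent.PnCoh.PushNat
import Groth.Agent.KFlatLib.Scheme.QCohTensor
import Groth.Agent.H23.PullPush
import Groth.Prelude.Def_Pic13

/-!
# Intersection numbers and direct images along affine morphisms; degrees on curves
-/

set_option linter.style.haveILetI false
set_option backward.isDefEq.respectTransparency false
set_option backward.isDefEq.respectTransparency.types false

universe u

open CategoryTheory CategoryTheory.Limits AlgebraicGeometry

attribute [local instance] HasDerivedCategory.standard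

noncomputable section

namespace Groth.Agent.IntNum47

open Groth.Agent Groth.Agent.HilbPoly

section Proj

variable {X Y : Scheme.{u}} (f : Y ⟶ X)

/-- The projection formula in degree zero, on the right. -/
theorem nonempty_projIso {L : X.Modules} (hL : PicF.IsInvertible L) (F : Y.Modules) :
    Nonempty ((AmpleVan.tw L).obj ((Scheme.Modules.pushforward f).obj F) ≅
      (Scheme.Modules.pushforward f).obj ((AmpleVan.tw ((Scheme.Modules.pullback f).obj L)).obj F)) := by
  haveI : EnoughInjectives Y.Modules := inferInstance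
  obtain ⟨φ⟩ := S0927.result f F L
    (fun y => let ⟨W, hy, he⟩ := InvEnd.isFinLocFreeOfRank_one hL y; ⟨W, 1, hy, he⟩) 0
  let ψ := (Scheme.Modules.pushforward f).rightDerivedZeroIsoSelf
  exact ⟨CurveTensor.commIso _ L ≪≫ (DCoh.tensorBi.obj L).mapIso (ψ.app F).symm ≪≫ φ ≪≫ ψ.app _ ≪≫
    (Scheme.Modules.pushforward f).mapIso (CurveTensor.commIso _ F)⟩

end Proj

variable (k : Type u) [Field k] {X Y : Scheme.{u}} [X.Over (Spec (CommRingCat.of k))]
  [Y.Over (Spec (CommRingCat.of k))] (f : Y ⟶ X) [IsAffineHom f]
  (hf : f ≫ (X ↘ Spec (CommRingCat.of k)) = Y ↘ Spec (CommRingCat.of k))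

include hf in
theorem euler_push {M : Y.Modules} (hM : Coh.IsQCoh M) :
    Curv2.euler k X ((Scheme.Modules.pushforward f).obj M) = Curv2.euler k Y M :=
  finsum_congr fun i => by
    obtain ⟨e⟩ := PnCoh.exists_linearEquiv_push k f hf hM i
    exact congrArg (fun n : ℕ => (-1 : ℤ) ^ i * (n : ℤ)) e.finrank_eq.symm

variable [IsProper (X ↘ Spec (CommRingCat.of k))] [IsProper (Y ↘ Spec (CommRingCat.of k))]

include hf in
theorem iterD_push : ∀ (l : List X.Modules), (∀ A ∈ l, PicF.IsInvertible A) → ∀ (F : Y.Modules), Coh.IsCoh F →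
    iterD l (Curv2.euler k X) ((Scheme.Modules.pushforward f).obj F) =
      iterD (l.map (Scheme.Modules.pullback f).obj) (Curv2.euler k Y) F
  | [], _, F, hF => euler_push k f hf hF.1
  | A :: l, h, F, hF => by
    haveI := CurveCohLib.isNoetherian_of_proper (k := k) (X := Y)
    have hA := h A List.mem_cons_self
    have hl : ∀ B ∈ l, PicF.IsInvertible B := fun B hB => h B (List.mem_cons_of_mem _ hB)
    simp only [List.map_cons, iterD]
    have h1 := iterD_push l hl ((AmpleVan.tw ((Scheme.Modules.pullback f).obj A)).obj F)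
      (AmpleVan.isCoh_tensor hF (AmpleVan.isCoh_invertible (PicClLib.isInvertible_pullback f hA)))
    rw [isoInv_iterD (isoInv_euler k) l (nonempty_projIso f hA F).some, h1, iterD_push l hl F hF]

include hf in
/-- The degree on a curve is an intersection number. -/
theorem iterD_push_structure_eq_curveDeg (hY : topologicalKrullDim Y ≤ (1 : ℕ)) {L : X.Modules}
    (hL : PicF.IsInvertible L) :
    iterD [L] (Curv2.euler k X) ((Scheme.Modules.pushforward f).obj (Coh.structureModule Y)) =
      Pic13.curveDeg k (f ≫ (X ↘ Spec (CommRingCat.of k))) ((Scheme.Modules.pullback f).obj L) := by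
  haveI := CurveCohLib.isNoetherian_of_proper (k := k) (X := Y)
  have hLf := PicClLib.isInvertible_pullback f hL
  rw [iterD_push k f hf [L] (fun A hA => List.mem_singleton.1 hA ▸ hL) _ QCoh.isCoh_structureModule']
  show Curv2.euler k Y _ - Curv2.euler k Y _ = _
  rw [Pic13.curveDeg, hf]
  show _ = FGA.eulerCharLE k Y _ 1 - FGA.eulerCharLE k Y _ 1
  rw [eulerCharLE_eq k hY QCoh.isQCoh_structureModule, eulerCharLE_eq k hY (AmpleVan.isCoh_invertible hLf).1]
  exact congrArg (· - _) (isoInv_euler k (CurveTensor.structureTensorIso _))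

end Groth.Agent.IntNum47
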