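import Groth.Agent.IntNum47.Basic

/-!
# Binomial expansion of the Euler characteristic of powers
-/

set_option linter.style.haveILetI false
set_option backward.isDefEq.respectTransparency false
set_option backward.isDefEq.respectTransparency.types false

universe u

open CategoryTheory CategoryTheory.Limits AlgebraicGeometry

attribute [local instance] HasDerivedCategory.standard

noncomputable section

namespace Groth.Agent.IntNum47

open Groth.Agent Groth.Agent.HilbPoly

lemma choose_step (m i : ℕ) :
    (m + (i + 1)).choose (i + 1) = (m + i).choose (i + 1) + (m + i).choose i := by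
  rw [← Nat.add_assoc, Nat.choose_succ_succ', Nat.add_comm]

/-- A triangular recursion is solved by binomial coefficients. -/
theorem sum_choose_of_rec : ∀ (n : ℕ) (g : ℕ → ℕ → ℤ),
    (∀ j m, g j (m + 1) = g j m + g (j + 1) (m + 1)) → (∀ m, g n m = 0) →
    ∀ m, g 0 m = ∑ i ∈ Finset.range n, ((m + i - 1).choose i : ℤ) * g i 0 := by
  intro n
  induction n with
  | zero => intro g _ h0 m; simp [h0 m]
  | succ n ih =>
    intro g hrec h0 m
    have hs := ih (fun j => g (j + 1)) (fun j m => hrec (j + 1) m) h0
    induction m with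
    | zero =>
      rw [Finset.sum_eq_single 0]
      · simp
      · intro i _ hi; rw [Nat.choose_eq_zero_of_lt (by omega)]; simp
      · simp
    | succ m ihm =>
      rw [hrec 0 m, hs (m + 1), ihm, Finset.sum_range_succ', Finset.sum_range_succ', add_right_comm,
        ← Finset.sum_add_distrib]
      simp only [Nat.choose_zero_right]
      refine congrArg (· + _) (Finset.sum_congr rfl fun i _ => ?_)
      rw [show m + 1 + (i + 1) - 1 = m + (i + 1) by omega, show m + 1 + i - 1 = m + i by omega,
        show m + (i + 1) - 1 = m + i by omega, choose_step]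
      push_cast
      ring

variable (k : Type u) [Field k] {X : Scheme.{u}} [X.Over (Spec (CommRingCat.of k))]
  [IsProper (X ↘ Spec (CommRingCat.of k))]

theorem forall_cons {A : X.Modules} (hA : PicF.IsInvertible A) {i : ℕ} :
    ∀ j, PicF.IsInvertible ((Fin.cons A (fun _ : Fin i => A) : Fin (i + 1) → X.Modules) j) :=
  Fin.forall_fin_succ.2 ⟨hA, fun _ => hA⟩

omit [X.Over (Spec (CommRingCat.of k))] [IsProper (X ↘ Spec (CommRingCat.of k))] in
/-- An inverse of an invertible module is invertible. -/
theorem isInvertible_of_inverse {L M : X.Modules} (hL : PicF.IsInvertible L)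
    (e : CohB1.tensorMod L M ≅ Coh.structureModule X) : PicF.IsInvertible M := by
  obtain ⟨D, hD, ⟨e'⟩⟩ := H23.PicInv.exists_inverse hL
  refine H23.PicMul.isInvertible_of_iso ?_ hD
  exact (AmpleVan.twUnit.app D).symm ≪≫ PicGrp.tensorModIso (Iso.refl D) e.symm ≪≫
    (AmpleVan.assocT D L M).symm ≪≫
    PicGrp.tensorModIso (CurveTensor.commIso D L ≪≫ e') (Iso.refl M) ≪≫ CurveTensor.structureTensorIso M

/-- The binomial expansion. -/
theorem euler_pow_eq_sum {d : ℕ} (hd : topologicalKrullDim X ≤ d) {L M : X.Modules} (hL : PicF.IsInvertible L)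
    (hM : PicF.IsInvertible M) (e : CohB1.tensorMod L M ≅ Coh.structureModule X)
    {F : X.Modules} (hF : Coh.IsCoh F) {r : ℕ} (hr : topologicalKrullDim ↥(CohB1.support F) ≤ r) (m : ℕ) :
    FGA.eulerCharLE k X (CohB1.tensorMod (CohB1.tensorPow L m) F) d =
      ∑ i ∈ Finset.range (r + 1), ((m + i - 1).choose i : ℤ) * FGA.intNum k X d (fun _ : Fin i => M) F := by
  haveI := CurveCohLib.isNoetherian_of_proper (k := k) (X := X)
  let G : ℕ → X.Modules := fun m => (AmpleVan.tw (CohB1.tensorPow L m)).obj F
  have hG : ∀ m, Coh.IsCoh (G m) := fun m => isCoh_pw hL hF m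
  let e0 : G 0 ≅ F := AmpleVan.twUnit.app F
  have es : ∀ m, Nonempty ((AmpleVan.tw M).obj (G (m + 1)) ≅ G m) := fun m =>
    ⟨AmpleVan.assocT F (CohB1.tensorPow L (m + 1)) M ≪≫ PicGrp.tensorModIso (Iso.refl F)
      (AmpleVan.assocT (CohB1.tensorPow L m) L M ≪≫ PicGrp.tensorModIso (Iso.refl _) e ≪≫
        AmpleVan.twUnit.app _)⟩
  let g : ℕ → ℕ → ℤ := fun i m => FGA.intNum k X d (fun _ : Fin i => M) (G m)
  have hrec : ∀ j m, g j (m + 1) = g j m + g (j + 1) (m + 1) := fun j m => by
    have h := intNum_cons k hd hM (M := fun _ : Fin j => M) (fun _ => hM) (hG (m + 1))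
    have hc : (Fin.cons M (fun _ : Fin j => M) : Fin (j + 1) → X.Modules) = fun _ => M :=
      funext fun i => by refine Fin.cases ?_ (fun _ => ?_) i <;> rfl
    have hi : FGA.intNum k X d (fun _ : Fin j => M) ((AmpleVan.tw M).obj (G (m + 1))) =
        FGA.intNum k X d (fun _ : Fin j => M) (G m) := intNum_congr_iso k hd (fun _ => hM)
      (AmpleVan.isCoh_tensor (hG (m + 1)) (AmpleVan.isCoh_invertible hM)) (hG m) (es m).some
    rw [hc, hi] at h
    simp only [g]
    linarith
  have h0 : ∀ m, g (r + 1) m = 0 := fun m => intNum_eq_zero k hd (fun _ => hM) (hG m)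
    (dimLT_of_subset (support_tensor_subset _ _) (lt_succ_of_le hr))
  have hg : g 0 m = FGA.eulerCharLE k X (CohB1.tensorMod (CohB1.tensorPow L m) F) d := by
    show FGA.intNum k X d (fun _ : Fin 0 => M) (G m) = _
    rw [intNum_eq k hd (fun _ => hM) (hG m), eulerCharLE_eq k hd
      (AmpleVan.isCoh_tensor (AmpleVan.isCoh_invertible (InvX.isInvertible_tensorPow hL m)) hF).1]
    simp only [pow_zero, one_mul, List.ofFn_zero, iterD]
    exact isoInv_euler k (CurveTensor.commIso F (CohB1.tensorPow L m))
  rw [← hg, sum_choose_of_rec (r + 1) g hrec h0 m]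
  refine Finset.sum_congr rfl fun i _ => congrArg _ ?_
  exact intNum_congr_iso k hd (fun _ => hM) (hG 0) hF e0

end Groth.Agent.IntNum47
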