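import Groth.Agent.IntNum47.IterD
import Groth.Agent.Snapper.Multi
import Groth.Agent.Snapper.DimVanish
import Groth.Prelude.Def_FGA
import Mathlib.Algebra.BigOperators.Fin

/-!
# Intersection numbers as iterated differences of the Euler characteristic
-/

set_option linter.style.haveILetI false
set_option backward.isDefEq.respectTransparency false
set_option backward.isDefEq.respectTransparency.types false

universe u

open CategoryTheory CategoryTheory.Limits AlgebraicGeometry

attribute [local instance] HasDerivedCategory.standard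

noncomputable section

namespace Groth.Agent.IntNum47

open Groth.Agent Groth.Agent.HilbPoly

variable (k : Type u) [Field k] {X : Scheme.{u}} [X.Over (Spec (CommRingCat.of k))]
  [IsProper (X ↘ Spec (CommRingCat.of k))]

theorem isoInv_euler : IsoInv (Curv2.euler k X) := isoInv_of_additive (additive_euler k)

omit [X.Over (Spec (CommRingCat.of k))] [IsProper (X ↘ Spec (CommRingCat.of k))] in
theorem isCoh_tensorList [IsLocallyNoetherian X] :
    ∀ {l : List X.Modules}, (∀ A ∈ l, PicF.IsInvertible A) → Coh.IsCoh (FGA.tensorList l)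
  | [], _ => QCoh.isCoh_structureModule'
  | A :: _, h => AmpleVan.isCoh_tensor (AmpleVan.isCoh_invertible (h A List.mem_cons_self))
      (isCoh_tensorList fun B hB => h B (List.mem_cons_of_mem _ hB))

/-- Euler characteristics in bounded degrees are Euler characteristics. -/
theorem eulerCharLE_eq {d : ℕ} (hd : topologicalKrullDim X ≤ d) {F : X.Modules} (hF : Coh.IsQCoh F) :
    FGA.eulerCharLE k X F d = Curv2.euler k X F := by
  haveI := CurveCohLib.isNoetherian_of_proper (k := k) (X := X)
  haveI : X.IsSeparated := ⟨by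
    rw [← Limits.terminal.comp_from (X ↘ Spec (CommRingCat.of k))]
    infer_instance⟩
  exact (Euler.euler_eq_sum k _ (d + 1) fun i hi =>
    Snapper.subsingleton_HH_of_dim_le hd hF (Nat.lt_of_succ_le hi)).symm

/-- Intersection numbers are iterated differences. -/
theorem intNum_eq {d : ℕ} (hd : topologicalKrullDim X ≤ d) {r : ℕ} {M : Fin r → X.Modules}
    (hM : ∀ i, PicF.IsInvertible (M i)) {F : X.Modules} (hF : Coh.IsCoh F) :
    FGA.intNum k X d M F = (-1) ^ r * iterD (List.ofFn M) (Curv2.euler k X) F := by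
  haveI := CurveCohLib.isNoetherian_of_proper (k := k) (X := X)
  rw [← altSum_eq_iterD (isoInv_euler k) M F]
  refine Finset.sum_congr rfl fun I _ => congrArg _ (eulerCharLE_eq k hd ?_)
  exact (AmpleVan.isCoh_tensor (isCoh_tensorList fun A hA => by
    obtain ⟨i, -, rfl⟩ := List.mem_map.1 hA; exact hM i) hF).1

omit [X.Over (Spec (CommRingCat.of k))] [IsProper (X ↘ Spec (CommRingCat.of k))] in
theorem forall_mem_ofFn {r : ℕ} {M : Fin r → X.Modules} (hM : ∀ i, PicF.IsInvertible (M i)) :
    ∀ A ∈ List.ofFn M, PicF.IsInvertible A := fun A hA => by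
  obtain ⟨i, rfl⟩ := List.mem_ofFn.1 hA
  exact hM i

/-- Intersection numbers vanish above the dimension of the support. -/
theorem intNum_eq_zero {d : ℕ} (hd : topologicalKrullDim X ≤ d) {r : ℕ} {M : Fin r → X.Modules}
    (hM : ∀ i, PicF.IsInvertible (M i)) {F : X.Modules} (hF : Coh.IsCoh F) (hr : DimLT F r) :
    FGA.intNum k X d M F = 0 := by
  haveI := CurveCohLib.isNoetherian_of_proper (k := k) (X := X)
  rw [intNum_eq k hd hM hF, iterD_eq_zero r (additive_euler k) _ List.length_ofFn (forall_mem_ofFn hM) F hF hr,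
    mul_zero]

/-- Short exact sequences. -/
theorem intNum_add {d : ℕ} (hd : topologicalKrullDim X ≤ d) {r : ℕ} {M : Fin r → X.Modules}
    (hM : ∀ i, PicF.IsInvertible (M i)) {S : ShortComplex X.Modules} (hS : S.ShortExact)
    (h₁ : Coh.IsCoh S.X₁) (h₂ : Coh.IsCoh S.X₂) (h₃ : Coh.IsCoh S.X₃) :
    FGA.intNum k X d M S.X₂ = FGA.intNum k X d M S.X₁ + FGA.intNum k X d M S.X₃ := by
  haveI := CurveCohLib.isNoetherian_of_proper (k := k) (X := X)
  rw [intNum_eq k hd hM h₁, intNum_eq k hd hM h₂, intNum_eq k hd hM h₃,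
    (additive_iterD (additive_euler k) (forall_mem_ofFn hM)).add S hS h₁ h₂ h₃]
  ring

/-- Invariance under isomorphisms of the module. -/
theorem intNum_congr_iso {d : ℕ} (hd : topologicalKrullDim X ≤ d) {r : ℕ} {M : Fin r → X.Modules}
    (hM : ∀ i, PicF.IsInvertible (M i)) {F G : X.Modules} (hF : Coh.IsCoh F) (hG : Coh.IsCoh G) (e : F ≅ G) :
    FGA.intNum k X d M F = FGA.intNum k X d M G := by
  rw [intNum_eq k hd hM hF, intNum_eq k hd hM hG, isoInv_iterD (isoInv_euler k) _ e]

/-- Symmetry. -/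
theorem intNum_perm {d : ℕ} (hd : topologicalKrullDim X ≤ d) {r : ℕ} {M : Fin r → X.Modules}
    (hM : ∀ i, PicF.IsInvertible (M i)) (σ : Equiv.Perm (Fin r)) {F : X.Modules} (hF : Coh.IsCoh F) :
    FGA.intNum k X d (fun i => M (σ i)) F = FGA.intNum k X d M F := by
  rw [intNum_eq k hd (fun i => hM (σ i)) hF, intNum_eq k hd hM hF,
    show (fun i => M (σ i)) = M ∘ σ from rfl,
    iterD_perm (isoInv_euler k) (Equiv.Perm.ofFn_comp_perm σ M)]

/-- Invariance under isomorphisms of the invertible modules. -/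
theorem intNum_congr {d : ℕ} (hd : topologicalKrullDim X ≤ d) {r : ℕ} {M N : Fin r → X.Modules}
    (hM : ∀ i, PicF.IsInvertible (M i)) (hN : ∀ i, PicF.IsInvertible (N i)) (e : ∀ i, Nonempty (M i ≅ N i))
    {F : X.Modules} (hF : Coh.IsCoh F) : FGA.intNum k X d M F = FGA.intNum k X d N F := by
  rw [intNum_eq k hd hM hF, intNum_eq k hd hN hF,
    iterD_congr (isoInv_euler k) (l' := List.ofFn N) (List.forall₂_iff_get.2
      ⟨by simp, fun i h₁ h₂ => by simpa using e ⟨i, by simpa using h₁⟩⟩)]

/-- Peeling off the first module. -/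
theorem intNum_cons {d : ℕ} (hd : topologicalKrullDim X ≤ d) {r : ℕ} {A : X.Modules} {M : Fin r → X.Modules}
    (hA : PicF.IsInvertible A) (hM : ∀ i, PicF.IsInvertible (M i)) {F : X.Modules} (hF : Coh.IsCoh F) :
    FGA.intNum k X d (Fin.cons A M) F = FGA.intNum k X d M F - FGA.intNum k X d M ((AmpleVan.tw A).obj F) := by
  haveI := CurveCohLib.isNoetherian_of_proper (k := k) (X := X)
  rw [intNum_eq k hd (Fin.forall_fin_succ.2 ⟨hA, hM⟩) hF, List.ofFn_cons, iterD, intNum_eq k hd hM hF,
    intNum_eq k hd hM (F := (AmpleVan.tw A).obj F) (AmpleVan.isCoh_tensor hF (AmpleVan.isCoh_invertible hA)),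
    pow_succ]
  ring

/-- Twisting the module does not change the intersection number in top dimension. -/
theorem intNum_twist {d : ℕ} (hd : topologicalKrullDim X ≤ d) {r : ℕ} {M : Fin r → X.Modules}
    (hM : ∀ i, PicF.IsInvertible (M i)) {N : X.Modules} (hN : PicF.IsInvertible N) {F : X.Modules}
    (hF : Coh.IsCoh F) (hr : DimLT F (r + 1)) :
    FGA.intNum k X d M ((AmpleVan.tw N).obj F) = FGA.intNum k X d M F := by
  have h := intNum_cons k hd hN hM hF
  rw [intNum_eq_zero k hd (Fin.forall_fin_succ.2 ⟨hN, hM⟩) hF hr] at h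
  linarith

/-- Additivity in the first module. -/
theorem intNum_cons_tensor {d : ℕ} (hd : topologicalKrullDim X ≤ d) {r : ℕ} {M : Fin r → X.Modules}
    (hM : ∀ i, PicF.IsInvertible (M i)) {A B : X.Modules} (hA : PicF.IsInvertible A) (hB : PicF.IsInvertible B)
    {F : X.Modules} (hF : Coh.IsCoh F) (hr : DimLT F (r + 2)) :
    FGA.intNum k X d (Fin.cons (CohB1.tensorMod A B) M) F =
      FGA.intNum k X d (Fin.cons A M) F + FGA.intNum k X d (Fin.cons B M) F := by
  haveI := CurveCohLib.isNoetherian_of_proper (k := k) (X := X)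
  rw [intNum_eq k hd (Fin.forall_fin_succ.2 ⟨InvX.isInvertible_tensorMod hA hB, hM⟩) hF,
    intNum_eq k hd (Fin.forall_fin_succ.2 ⟨hA, hM⟩) hF, intNum_eq k hd (Fin.forall_fin_succ.2 ⟨hB, hM⟩) hF,
    List.ofFn_cons, List.ofFn_cons, List.ofFn_cons, iterD_tensor (isoInv_euler k),
    iterD_eq_zero (r + 2) (additive_euler k) (A :: B :: List.ofFn M) (by simp) (by
      intro C hC
      rcases List.mem_cons.1 hC with rfl | hC
      · exact hA
      rcases List.mem_cons.1 hC with rfl | hC
      · exact hB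
      exact forall_mem_ofFn hM C hC) F hF hr]
  ring

end Groth.Agent.IntNum47
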