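import Groth.Agent.IntNum47.Push
import Groth.Agent.QCoh.DevissageP

/-!
# Intersection numbers only depend on degrees on curves
-/

set_option linter.style.haveILetI false
set_option backward.isDefEq.respectTransparency false
set_option backward.isDefEq.respectTransparency.types false

universe u

open CategoryTheory CategoryTheory.Limits AlgebraicGeometry TopologicalSpace

attribute [local instance] HasDerivedCategory.standard

noncomputable section

namespace Groth.Agent.IntNum47

open Groth.Agent Groth.Agent.HilbPoly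

variable (k : Type u) [Field k] {X : Scheme.{u}} [X.Over (Spec (CommRingCat.of k))]
  [IsProper (X ↘ Spec (CommRingCat.of k))]

lemma dim_eq_or_lt {d : WithBot ℕ∞} (h : d ≤ (1 : ℕ)) : d = 1 ∨ d < ((1 : ℕ) : WithBot ℕ∞) := by
  rcases lt_or_eq_of_le h with h' | h'
  · exact Or.inr h'
  · exact Or.inl (by simpa using h')

/-- Degree zero on every curve. -/
def DegZero (L : X.Modules) : Prop :=
  ∀ (Y : Scheme.{u}) (i : Y ⟶ X) [IsClosedImmersion i], IsIntegral Y → topologicalKrullDim Y = 1 →
    iterD [L] (Curv2.euler k X) ((Coh.push i).obj (Coh.structureModule Y)) = 0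

theorem iterD_eq_zero_of_degZero {N : X.Modules} (hN : PicF.IsInvertible N) (hd0 : DegZero k N) :
    ∀ (l : List X.Modules), (∀ A ∈ l, PicF.IsInvertible A) → ∀ F : X.Modules, Coh.IsCoh F →
      DimLT F (l.length + 2) → iterD (N :: l) (Curv2.euler k X) F = 0 := by
  haveI := CurveCohLib.isNoetherian_of_proper (k := k) (X := X)
  intro l
  induction l with
  | nil =>
    intro _ F hF hd
    have hs : ∀ A ∈ [N], PicF.IsInvertible A := fun A hA => List.mem_singleton.1 hA ▸ hN
    have hA := additive_iterD (additive_euler k (X := X)) hs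
    refine QCoh.devissage (fun M => iterD [N] (Curv2.euler k X) M = 0)
      (fun M M' e h => (hA.iso M M' e).symm.trans h) (fun M hM => hA.zero_of_isZero hM)
      (CohB1.support F) (fun S hS h₁ h₂ h₃ _ e₁ e₃ => by rw [hA.add S hS h₁ h₂ h₃, e₁, e₃, add_zero])
      (fun ξ hξ _ Z i _ _ hr => ?_)
      (fun S hS h₁ h₂ h₃ _ e₂ e₃ => by
        have := hA.add S hS h₁ h₂ h₃
        rw [e₂, e₃, add_zero] at this
        exact this.symm) hF subset_rfl
    have hcl : topologicalKrullDim ↥(closure ({ξ} : Set X)) ≤ ((1 : ℕ) : WithBot ℕ∞) :=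
      le_of_lt_succ ((H23.TopDim.dim_le_dim_of_subset hξ).trans_lt hd)
    rcases dim_eq_or_lt hcl with h1 | h1
    · refine hd0 Z i inferInstance ?_
      rw [← h1]
      let e := i.isClosedEmbedding.isEmbedding.toHomeomorph
      rw [← hr]
      exact IsHomeomorph.topologicalKrullDim_eq _ e.isHomeomorph
    · exact iterD_eq_zero 1 (additive_euler k) [N] rfl hs _ (QCoh.isCoh_push_structure i)
        (dimLT_of_subset ((QCoh.support_push_subset i QCoh.isQCoh_structureModule).trans hr.le) h1)
  | cons A l ih =>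
    intro hl F hF hd
    have hA := hl A List.mem_cons_self
    have hl' : ∀ B ∈ l, PicF.IsInvertible B := fun B hB => hl B (List.mem_cons_of_mem _ hB)
    have hs : ∀ B ∈ N :: l, PicF.IsInvertible B := fun B hB =>
      (List.mem_cons.1 hB).elim (fun h => h ▸ hN) (hl' B)
    have hs' : ∀ B ∈ A :: N :: l, PicF.IsInvertible B := fun B hB =>
      (List.mem_cons.1 hB).elim (fun h => h ▸ hA) (hs B)
    have hG := additive_iterD (additive_euler k (X := X)) hs
    have hA2 := additive_iterD (additive_euler k (X := X)) hs'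
    rw [iterD_swap (isoInv_euler k)]
    refine QCoh.devissage (fun M => iterD (A :: N :: l) (Curv2.euler k X) M = 0)
      (fun M M' e h => (hA2.iso M M' e).symm.trans h) (fun M hM => hA2.zero_of_isZero hM)
      (CohB1.support F) (fun S hS h₁ h₂ h₃ _ e₁ e₃ => by rw [hA2.add S hS h₁ h₂ h₃, e₁, e₃, add_zero])
      (fun ξ hξ _ Z i _ _ hr => ?_)
      (fun S hS h₁ h₂ h₃ _ e₂ e₃ => by
        have := hA2.add S hS h₁ h₂ h₃
        rw [e₂, e₃, add_zero] at this
        exact this.symm) hF subset_rfl
    obtain ⟨C₁, C₂, hC₁, hC₂, hs₁, hx₁, hs₂, hx₂, hC⟩ := exists_step i hr hA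
    have hcl : topologicalKrullDim ↥(closure ({ξ} : Set X)) ≤ ((l.length + 2 : ℕ) : WithBot ℕ∞) :=
      le_of_lt_succ ((H23.TopDim.dim_le_dim_of_subset hξ).trans_lt hd)
    have h1 := ih hl' C₁ hC₁ (dim_lt_closure hcl (QCoh.isClosed_support_of_isFT hC₁.1 hC₁.2) hs₁ hx₁)
    have h2 := ih hl' C₂ hC₂ (dim_lt_closure hcl (QCoh.isClosed_support_of_isFT hC₂.1 hC₂.2) hs₂ hx₂)
    have h3 := hC _ hG
    rw [h1, h2, add_zero, add_zero] at h3
    exact sub_eq_zero.2 h3

/-- The same degree on every curve. -/
def SameDeg (A B : X.Modules) : Prop :=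
  ∀ (Y : Scheme.{u}) (i : Y ⟶ X) [IsClosedImmersion i], IsIntegral Y → topologicalKrullDim Y = 1 →
    iterD [A] (Curv2.euler k X) ((Coh.push i).obj (Coh.structureModule Y)) =
      iterD [B] (Curv2.euler k X) ((Coh.push i).obj (Coh.structureModule Y))

theorem iterD_tensor_one {A B : X.Modules} (hA : PicF.IsInvertible A) (hB : PicF.IsInvertible B)
    {F : X.Modules} (hF : Coh.IsCoh F) {r : ℕ} {l : List X.Modules} (hl : ∀ C ∈ l, PicF.IsInvertible C)
    (hr : l.length = r) (hd : DimLT F (r + 2)) :
    iterD (CohB1.tensorMod A B :: l) (Curv2.euler k X) F =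
      iterD (A :: l) (Curv2.euler k X) F + iterD (B :: l) (Curv2.euler k X) F := by
  haveI := CurveCohLib.isNoetherian_of_proper (k := k) (X := X)
  rw [iterD_tensor (isoInv_euler k), iterD_eq_zero (r + 2) (additive_euler k) (A :: B :: l) (by simp [hr]) (by
      intro C hC
      rcases List.mem_cons.1 hC with rfl | hC
      · exact hA
      rcases List.mem_cons.1 hC with rfl | hC
      · exact hB
      exact hl C hC) F hF hd, add_zero]

theorem dimLT_push_curve {Y : Scheme.{u}} (i : Y ⟶ X) [IsClosedImmersion i]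
    (hY : topologicalKrullDim Y = 1) : DimLT ((Coh.push i).obj (Coh.structureModule Y)) 2 := by
  refine dimLT_of_subset (QCoh.support_push_subset i QCoh.isQCoh_structureModule) ?_
  rw [← IsHomeomorph.topologicalKrullDim_eq _ i.isClosedEmbedding.isEmbedding.toHomeomorph.isHomeomorph, hY]
  exact_mod_cast Nat.lt_succ_self 1

theorem iterD_eq_of_sameDeg {A B : X.Modules} (hA : PicF.IsInvertible A) (hB : PicF.IsInvertible B)
    (h : SameDeg k A B) (l : List X.Modules) (hl : ∀ C ∈ l, PicF.IsInvertible C) (F : X.Modules)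
    (hF : Coh.IsCoh F) (hd : DimLT F (l.length + 2)) :
    iterD (A :: l) (Curv2.euler k X) F = iterD (B :: l) (Curv2.euler k X) F := by
  haveI := CurveCohLib.isNoetherian_of_proper (k := k) (X := X)
  obtain ⟨D, hD, ⟨e⟩⟩ := H23.PicInv.exists_inverse hB
  let N := CohB1.tensorMod D A
  have hN : PicF.IsInvertible N := InvX.isInvertible_tensorMod hD hA
  have eA : CohB1.tensorMod B N ≅ A := (AmpleVan.assocT B D A).symm ≪≫
    PicGrp.tensorModIso e (Iso.refl A) ≪≫ CurveTensor.structureTensorIso A
  have hd0 : DegZero k N := fun Y i hi hY hY1 => by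
    have h0 := iterD_tensor_one k hB hN (QCoh.isCoh_push_structure i) (l := []) (by simp) rfl
      (dimLT_push_curve i hY1)
    rw [iterD_congr_head (isoInv_euler k) eA, h Y i hY hY1] at h0
    linarith
  rw [← iterD_congr_head (isoInv_euler k) eA, iterD_tensor_one k hB hN hF hl rfl hd,
    iterD_eq_zero_of_degZero k hN hd0 l hl F hF hd, add_zero]

theorem iterD_eq_of_forall₂ : ∀ {l l' : List X.Modules},
    List.Forall₂ (fun A B => PicF.IsInvertible A ∧ PicF.IsInvertible B ∧ SameDeg k A B) l l' →
    ∀ (pre : List X.Modules), (∀ C ∈ pre, PicF.IsInvertible C) → ∀ F : X.Modules, Coh.IsCoh F →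
      DimLT F (pre.length + l.length + 1) →
      iterD (pre ++ l) (Curv2.euler k X) F = iterD (pre ++ l') (Curv2.euler k X) F := by
  intro l l' hll
  induction hll with
  | nil => intros; rfl
  | @cons A B l l' hAB hl ih =>
    intro pre hpre F hF hd
    obtain ⟨hA, hB, hdeg⟩ := hAB
    have hlA : ∀ C ∈ l, PicF.IsInvertible C := by
      intro C hC
      obtain ⟨n, hn, rfl⟩ := List.mem_iff_getElem.1 hC
      exact ((List.forall₂_iff_get.1 hl).2 n hn ((List.forall₂_iff_get.1 hl).1 ▸ hn)).1
    rw [iterD_perm (isoInv_euler k) List.perm_middle, iterD_eq_of_sameDeg k hA hB hdeg (pre ++ l)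
      (fun C hC => (List.mem_append.1 hC).elim (hpre C) (hlA C)) F hF (lt_of_lt_of_le hd (Nat.cast_le.2 (by simp; omega)))]
    rw [iterD_perm (isoInv_euler k) (List.perm_middle (a := B) (l₁ := pre) (l₂ := l)).symm]
    have := ih (pre ++ [B]) (fun C hC => (List.mem_append.1 hC).elim (hpre C)
      (fun h => List.mem_singleton.1 h ▸ hB)) F hF (lt_of_lt_of_le hd (Nat.cast_le.2 (by simp; omega)))
    simpa using this

end Groth.Agent.IntNum47
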