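import Groth.Agent.HilbPoly.Poly
import Groth.Agent.AmpleVan.Mul
import Groth.Agent.Lib.CurveTensor
import Groth.Prelude.Def_PicGrp

/-!
# Algebra of iterated differences along invertible modules
-/

set_option linter.style.haveILetI false
set_option backward.isDefEq.respectTransparency false
set_option backward.isDefEq.respectTransparency.types false

universe u

open CategoryTheory CategoryTheory.Limits AlgebraicGeometry

attribute [local instance] HasDerivedCategory.standard

noncomputable section

namespace Groth.Agent.IntNum47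

open Groth.Agent Groth.Agent.HilbPoly

variable {X : Scheme.{u}}

/-- An invariant of isomorphism classes. -/
def IsoInv (φ : X.Modules → ℤ) : Prop := ∀ ⦃A B : X.Modules⦄, (A ≅ B) → φ A = φ B

lemma isoInv_of_additive {φ : X.Modules → ℤ} (h : Additive φ) : IsoInv φ := fun _ _ e => h.iso _ _ ⟨e⟩

variable {φ : X.Modules → ℤ}

lemma isoInv_iterD (hφ : IsoInv φ) (l : List X.Modules) : IsoInv (iterD l φ) := by
  induction l with
  | nil => exact hφ
  | cons N l ih =>
    intro A B e
    show iterD l φ _ - iterD l φ _ = iterD l φ _ - iterD l φ _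
    rw [ih e, ih ((AmpleVan.tw N).mapIso e)]

/-- The two ways of tensoring twice on the right. -/
def twSwap (A B F : X.Modules) :
    (AmpleVan.tw B).obj ((AmpleVan.tw A).obj F) ≅ (AmpleVan.tw A).obj ((AmpleVan.tw B).obj F) :=
  AmpleVan.assocT F A B ≪≫ PicGrp.tensorModIso (Iso.refl F) (CurveTensor.commIso A B) ≪≫
    (AmpleVan.assocT F B A).symm

theorem iterD_swap (hφ : IsoInv φ) (A B : X.Modules) (l : List X.Modules) (F : X.Modules) :
    iterD (A :: B :: l) φ F = iterD (B :: A :: l) φ F := by
  simp only [iterD]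
  rw [isoInv_iterD hφ l (twSwap A B F)]
  ring

theorem iterD_perm (hφ : IsoInv φ) {l l' : List X.Modules} (h : l.Perm l') (F : X.Modules) :
    iterD l φ F = iterD l' φ F := by
  induction h generalizing F with
  | nil => rfl
  | cons A _ ih => simp only [iterD, ih]
  | swap A B l => exact iterD_swap hφ B A l F
  | trans _ _ ih₁ ih₂ => exact (ih₁ F).trans (ih₂ F)

theorem iterD_congr_head (hφ : IsoInv φ) {A B : X.Modules} (e : A ≅ B) (l : List X.Modules) (F : X.Modules) :
    iterD (A :: l) φ F = iterD (B :: l) φ F := by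
  simp only [iterD]
  rw [show iterD l φ ((AmpleVan.tw A).obj F) = iterD l φ ((AmpleVan.tw B).obj F) from
    isoInv_iterD hφ l (PicGrp.tensorModIso (Iso.refl F) e)]

theorem iterD_congr (hφ : IsoInv φ) {l l' : List X.Modules}
    (h : List.Forall₂ (fun A B => Nonempty (A ≅ B)) l l') (F : X.Modules) :
    iterD l φ F = iterD l' φ F := by
  induction h generalizing F with
  | nil => rfl
  | @cons A B l l' hAB hl ih =>
    rw [iterD_congr_head hφ hAB.some]
    simp only [iterD, ih]

/-- The difference along a tensor product. -/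
theorem iterD_tensor (hφ : IsoInv φ) (A B : X.Modules) (l : List X.Modules) (F : X.Modules) :
    iterD (CohB1.tensorMod A B :: l) φ F =
      iterD (A :: l) φ F + iterD (B :: l) φ F + iterD (A :: B :: l) φ F := by
  simp only [iterD]
  rw [show iterD l φ ((AmpleVan.tw (CohB1.tensorMod A B)).obj F) =
    iterD l φ ((AmpleVan.tw B).obj ((AmpleVan.tw A).obj F)) from isoInv_iterD hφ l (AmpleVan.assocT F A B).symm]
  ring

theorem iterD_structure (hφ : IsoInv φ) (l : List X.Modules) (F : X.Modules) :
    iterD (Coh.structureModule X :: l) φ F = 0 := by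
  simp only [iterD]
  rw [isoInv_iterD hφ l (AmpleVan.twUnit.app F)]
  simp

/-- An invariant applied to a product of a list of modules. -/
def ev (φ : X.Modules → ℤ) (F : X.Modules) (l : List X.Modules) : ℤ :=
  φ (CohB1.tensorMod (FGA.tensorList l) F)

lemma ev_cons (hφ : IsoInv φ) (F N : X.Modules) (l : List X.Modules) :
    ev φ F (N :: l) = ev φ ((AmpleVan.tw N).obj F) l :=
  hφ (PicGrp.tensorModIso (CurveTensor.commIso N (FGA.tensorList l)) (Iso.refl F) ≪≫
    AmpleVan.assocT (FGA.tensorList l) N F ≪≫
    PicGrp.tensorModIso (Iso.refl _) (CurveTensor.commIso N F))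

lemma ev_nil (hφ : IsoInv φ) (F : X.Modules) : ev φ F [] = φ F :=
  hφ (CurveTensor.structureTensorIso F)

lemma sort_insert_zero_map {r : ℕ} (J : Finset (Fin r)) :
    (insert (0 : Fin (r + 1)) (J.map (Fin.succEmb r))).sort (· ≤ ·) =
      0 :: (J.sort (· ≤ ·)).map Fin.succ := by
  rw [Finset.sort_insert _ (fun b _ => Fin.zero_le b) (by simp [Fin.succ_ne_zero])]
  exact congrArg (List.cons 0) (Finset.map_sort (Fin.succEmb r) J _ _ fun a _ b _ => Fin.succ_le_succ_iff.symm).symm

lemma sort_map_succ {r : ℕ} (J : Finset (Fin r)) :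
    (J.map (Fin.succEmb r)).sort (· ≤ ·) = (J.sort (· ≤ ·)).map Fin.succ :=
  (Finset.map_sort (Fin.succEmb r) J _ _ fun a _ b _ => Fin.succ_le_succ_iff.symm).symm

/-- Splitting a sum over subsets of `Fin (r + 1)` by membership of `0`. -/
theorem sum_finset_fin_succ {M : Type*} [AddCommMonoid M] {r : ℕ} (f : Finset (Fin (r + 1)) → M) :
    ∑ I, f I = ∑ J : Finset (Fin r), (f (J.map (Fin.succEmb r)) + f (insert 0 (J.map (Fin.succEmb r)))) := by
  classical
  rw [Finset.sum_add_distrib]
  have hu : (Finset.univ : Finset (Fin (r + 1))) = insert 0 (Finset.univ.map (Fin.succEmb r)) := by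
    ext i
    refine Fin.cases ?_ (fun j => ?_) i <;> simp
  have h0 : (0 : Fin (r + 1)) ∉ (Finset.univ : Finset (Fin r)).map (Fin.succEmb r) := by
    simp [Fin.succ_ne_zero]
  have hp : ((Finset.univ : Finset (Fin r)).map (Fin.succEmb r)).powerset =
      (Finset.univ : Finset (Finset (Fin r))).image (Finset.map (Fin.succEmb r)) := by
    ext s
    simp only [Finset.mem_powerset, Finset.mem_image, Finset.subset_map_iff, Finset.mem_univ, true_and]
    constructor
    · rintro ⟨u, -, rfl⟩; exact ⟨u, rfl⟩
    · rintro ⟨u, rfl⟩; exact ⟨u, Finset.subset_univ u, rfl⟩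
  rw [← Finset.powerset_univ, hu, Finset.sum_powerset_insert h0, hp,
    Finset.sum_image (fun a _ b _ h => Finset.map_injective _ h),
    Finset.sum_image (fun a _ b _ h => Finset.map_injective _ h)]

/-- The alternating sum over subsets is the iterated difference. -/
theorem altSum_eq_iterD (hφ : IsoInv φ) : ∀ {r : ℕ} (M : Fin r → X.Modules) (F : X.Modules),
    (∑ I : Finset (Fin r), (-1 : ℤ) ^ I.card * ev φ F ((I.sort (· ≤ ·)).map M)) =
      (-1) ^ r * iterD (List.ofFn M) φ F
  | 0, M, F => by
    rw [show (Finset.univ : Finset (Finset (Fin 0))) = {∅} from rfl, Finset.sum_singleton]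
    simp [ev_nil hφ, iterD]
  | r + 1, M, F => by
    rw [sum_finset_fin_succ, List.ofFn_succ]
    have h : ∀ J : Finset (Fin r),
        (-1 : ℤ) ^ (J.map (Fin.succEmb r)).card *
            ev φ F (((J.map (Fin.succEmb r)).sort (· ≤ ·)).map M) +
          (-1 : ℤ) ^ (insert 0 (J.map (Fin.succEmb r))).card *
            ev φ F (((insert 0 (J.map (Fin.succEmb r))).sort (· ≤ ·)).map M) =
        (-1 : ℤ) ^ J.card * ev φ F ((J.sort (· ≤ ·)).map fun i => M i.succ) -
          (-1 : ℤ) ^ J.card * ev φ ((AmpleVan.tw (M 0)).obj F) ((J.sort (· ≤ ·)).map fun i => M i.succ) := by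
      intro J
      rw [Finset.card_insert_of_notMem (by simp [Fin.succ_ne_zero]), Finset.card_map, sort_insert_zero_map,
        sort_map_succ, List.map_cons, List.map_map, ev_cons hφ, pow_succ]
      simp only [Function.comp_def]
      ring
    rw [Finset.sum_congr rfl fun J _ => h J, Finset.sum_sub_distrib, altSum_eq_iterD hφ, altSum_eq_iterD hφ,
      iterD, pow_succ]
    ring

end Groth.Agent.IntNum47
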